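import Cfsg.Agent.LieClassical.OrthSimple
import Cfsg.Agent.LieClassical.OrthForms
import Cfsg.Agent.LieClassical.OrthFinite

/-!
# S5719, odd-dimensional orthogonal groups, `q` odd (helper807)

* `center_odd` : the centre of `E Q` is trivial in odd dimension (`2 ≠ 0`);
* `simple_odd` : `E Q` is simple, dimension odd `≥ 5`, finite field, `2 ≠ 0`;
* `eOdd` : `POmega F (quadFormOdd m F) ≃* ↥(E (oddForm m F))`, `m ≥ 2`.
-/

set_option autoImplicit false

namespace Cfsg.Agent.H807.IF

open QuadraticMap Cfsg.Agent.LieClassical.OrthCore Cfsg.Agent.LieClassical.OrthTrans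
  Cfsg.Agent.LieClassical.OrthSimple Cfsg.Agent.LieClassical.OrthFinite Cfsg.Agent.LieClassical.OrthForms

section gen

variable {F V : Type*} [Field F] [AddCommGroup V] [Module F V] {Q : QuadraticForm F V}

/-- the centre of `E Q` is trivial in odd dimension, `2 ≠ 0` -/
theorem center_odd (hG : Good Q) (h2 : (2 : F) ≠ 0) (ho : Odd (Module.finrank F V)) :
    Subgroup.center ↥(E Q) = ⊥ := by
  set N := (Subgroup.center ↥(E Q)).map (E Q).subtype with hN
  have hNE : N ≤ E Q := by
    rintro _ ⟨x, -, rfl⟩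
    exact x.2
  have hcomm : ∀ n ∈ N, ∀ g ∈ E Q, g * n = n * g := by
    rintro _ ⟨x, hx, rfl⟩ g hg
    exact congrArg Subtype.val (Subgroup.mem_center_iff.1 hx ⟨g, hg⟩)
  have hdet : E Q ≤ (LinearEquiv.det : (V ≃ₗ[F] V) →* Fˣ).ker := by
    have h1 : ⁅E Q, E Q⁆ ≤ (LinearEquiv.det : (V ≃ₗ[F] V) →* Fˣ).ker := by
      rw [Subgroup.commutator_le]
      intro a _ b _
      rw [MonoidHom.mem_ker, map_commutatorElement, commutatorElement_eq_one_iff_mul_comm, mul_comm]
    rwa [hG.E_perfect] at h1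
  have key : ∀ n ∈ N, n = 1 := by
    intro n hn
    have h1 : ∃ c : F, ∀ v : V, n v = c • v := by
      rcases good_normal_dichotomy hG hNE (fun g hg n hn => by
        rw [hcomm n hn g hg, mul_inv_cancel_right]; exact hn) with h | h
      · exact h _ hn
      · exfalso
        obtain ⟨g, hg, hg1⟩ := good_E_ne_bot hG
        have h1 : ⁅E Q, E Q⁆ ≤ ⊥ := by
          rw [Subgroup.commutator_le]
          intro g1 hg1 g2 hg2
          rw [← h] at hg1
          rw [Subgroup.mem_bot, commutatorElement_def, ← hcomm g1 hg1 g2 hg2]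
          group
        rw [hG.E_perfect] at h1
        exact hg1 (Subgroup.mem_bot.1 (h1 hg))
    obtain ⟨c, hc⟩ := h1
    obtain ⟨x, y, hxy⟩ := hG.exists_hyp
    have h4 : Q (n (x + y)) = Q (x + y) := E_le_O (hNE hn) _
    have h5 : Q (x + y) = 1 := by rw [Q_add, hxy.left, hxy.right, hxy.pair]; simp
    rw [hc, QuadraticMap.map_smul, h5, smul_eq_mul, mul_one] at h4
    have h6 : (c - 1) * (c + 1) = 0 := by linear_combination h4
    rcases mul_eq_zero.1 h6 with h7 | h7
    · apply LinearEquiv.ext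
      intro v
      rw [hc, sub_eq_zero.1 h7, one_smul]
      rfl
    · exfalso
      have h8 : LinearEquiv.det n = 1 := hdet (hNE hn)
      have h9 : LinearMap.det (n : V →ₗ[F] V) = 1 := by
        rw [← LinearEquiv.coe_det, h8, Units.val_one]
      have h10 : (n : V →ₗ[F] V) = c • LinearMap.id := by
        ext v
        exact hc v
      rw [h10, LinearMap.det_smul, LinearMap.det_id, mul_one, eq_neg_of_add_eq_zero_left h7,
        ho.neg_one_pow] at h9
      apply h2
      linear_combination -h9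
  rw [Subgroup.eq_bot_iff_forall]
  intro z hz
  apply Subtype.ext
  exact key z.1 ⟨z, hz, rfl⟩

/-- `E Q` modulo its trivial centre -/
noncomputable def quotOdd (hc : Subgroup.center ↥(E Q) = ⊥) : ↥(E Q) ⧸ Subgroup.center ↥(E Q) ≃* ↥(E Q) :=
  (QuotientGroup.quotientMulEquivOfEq hc).trans QuotientGroup.quotientBot

/-- **`Ω_{2m+1}(q)`, `q` odd, `m ≥ 2`, is simple** -/
theorem simple_odd [Finite F] [FiniteDimensional F V] (h2 : (2 : F) ≠ 0) (hQ : Nondeg Q)
    (ho : Odd (Module.finrank F V)) (h5 : 5 ≤ Module.finrank F V) : IsSimpleGroup ↥(E Q) := by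
  have hG : Good Q := good_of_finite hQ h5
  have h1 : IsSimpleGroup (↥(E Q) ⧸ Subgroup.center ↥(E Q)) := good_isSimpleGroup hG
  exact (quotOdd (center_odd hG h2 ho)).symm.isSimpleGroup

end gen

section row

variable {F : Type*} [Field F]

theorem finrank_odd (m : ℕ) : Module.finrank F (Unit ⊕ (Fin m ⊕ Fin m) → F) = 2 * m + 1 := by
  rw [Module.finrank_fintype_fun_eq_card, Fintype.card_sum, Fintype.card_sum, Fintype.card_fin, Fintype.card_unit]
  omega

theorem good_odd_row [Finite F] (h2 : (2 : F) ≠ 0) {m : ℕ} (hm : 2 ≤ m) : Good (oddForm m F) :=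
  good_of_finite (nondeg_oddForm m F h2) (by rw [finrank_odd]; omega)

/-- **`PΩ_{2m+1}(q)` is `E` of the odd form.** -/
noncomputable def eOdd [Finite F] (h2 : (2 : F) ≠ 0) {m : ℕ} (hm : 2 ≤ m) :
    Cfsg.POmega F (Cfsg.quadFormOdd m F) ≃* ↥(E (oddForm m F)) := by
  rw [← coe_oddForm]
  exact (quotientCenterCongr ((omegaEquiv (oddForm m F)).trans
    (MulEquiv.subgroupCongr (good_odd_row h2 hm).commutator_eq_E))).trans
    (quotOdd (center_odd (good_odd_row h2 hm) h2 (by rw [finrank_odd]; exact ⟨m, by ring⟩)))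

theorem simple_row [Finite F] (h2 : (2 : F) ≠ 0) {m : ℕ} (hm : 2 ≤ m) : IsSimpleGroup ↥(E (oddForm m F)) :=
  simple_odd h2 (nondeg_oddForm m F h2) (by rw [finrank_odd]; exact ⟨m, by ring⟩) (by rw [finrank_odd]; omega)

end row

end Cfsg.Agent.H807.IF
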